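import Mathlib
import Cfsg.Agent.Lib.Helper50.FOT.Defs
import Cfsg.Agent.S3359

/-!
# Project FOT (S3999): package [SL25]

A nonsolvable Frobenius complement has exactly 24 elements of order 5 and `5 ∥ |C|`
(from the landed S3359 and a kernel count in `SL(2,5)`).
-/

set_option autoImplicit false

open scoped Pointwise

namespace Cfsg.Agent.Lib.Helper57.FOT

universe u

set_option maxRecDepth 1000000 in
/-- `SL(2,5)` has exactly 24 elements `A ≠ 1` with `A ^ 5 = 1`. -/
theorem sl25_count_aux :
    Fintype.card {A : Matrix.SpecialLinearGroup (Fin 2) (ZMod 5) // A ^ 5 = 1 ∧ A ≠ 1} = 24 := by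
  decide +kernel

/-- `SL(2,5)` has exactly 24 elements of order 5. -/
theorem sl25_count :
    Nat.card {A : Matrix.SpecialLinearGroup (Fin 2) (ZMod 5) // orderOf A = 5} = 24 := by
  rw [← sl25_count_aux, ← Nat.card_eq_fintype_card]
  refine Nat.card_congr (Equiv.subtypeEquivRight fun A => ?_)
  have : Fact (Nat.Prime 5) := ⟨by norm_num⟩
  exact orderOf_eq_prime_iff

/-- `SL(2,5)` has 120 elements. -/
theorem sl25_card : Nat.card (Matrix.SpecialLinearGroup (Fin 2) (ZMod 5)) = 120 := by
  rw [Nat.card_eq_fintype_card]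
  decide +kernel

/-- Frobenius complements are transported along group isomorphisms. -/
theorem frobCompl_map {X : Type*} {L : Type*} [Group X] [Group L] (ψ : X ≃* L) (C : Subgroup X)
    (hC : Cfsg.IsFrobeniusComplement C) :
    Cfsg.IsFrobeniusComplement (C.map (ψ : X →* L)) := by
  obtain ⟨h1, h2, h3⟩ := hC
  refine ⟨?_, ?_, ?_⟩
  · intro h
    apply h1
    rw [Subgroup.eq_bot_iff_forall]
    intro c hc
    have : ψ c ∈ C.map (ψ : X →* L) := ⟨c, hc, rfl⟩
    rw [h, Subgroup.mem_bot] at this
    exact ψ.injective (this.trans (map_one ψ).symm)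
  · intro h
    apply h2
    rw [Subgroup.eq_top_iff']
    intro x
    have : ψ x ∈ C.map (ψ : X →* L) := by rw [h]; exact Subgroup.mem_top _
    obtain ⟨c, hc, hcx⟩ := this
    have : c = x := ψ.injective hcx
    exact this ▸ hc
  · intro g hg
    rw [Subgroup.eq_bot_iff_forall]
    rintro z ⟨hz1, hz2⟩
    obtain ⟨c, hc, rfl⟩ := hz1
    obtain ⟨w, hw, hwz⟩ := hz2
    obtain ⟨c', hc', rfl⟩ := hw
    obtain ⟨g₀, rfl⟩ := ψ.surjective g
    have hg₀ : g₀ ∉ C := fun h => hg ⟨g₀, h, rfl⟩
    have hwz' : ψ (g₀ * c' * g₀⁻¹) = ψ c := by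
      have h := hwz
      simp only [MulDistribMulAction.toMonoidEnd_apply, MulDistribMulAction.toMonoidHom_apply,
        MulAut.smul_def, MulAut.conj_apply] at h
      rw [map_mul, map_mul, map_inv]
      exact h
    have hcc : c = g₀ * c' * g₀⁻¹ := (ψ.injective hwz').symm
    have hmem : c ∈ C ⊓ (MulAut.conj g₀ • C) := by
      refine ⟨hc, ?_⟩
      rw [hcc]
      exact ⟨c', hc', by simp [MulAut.conj_apply]⟩
    rw [h3 g₀ hg₀, Subgroup.mem_bot] at hmem
    rw [hmem]
    exact map_one ψ

/-- A Frobenius complement in a finite group of any universe is isomorphic to a Frobenius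
complement in a finite group living in `Type`. -/
theorem frobCompl_shrink (X : Type u) [Group X] [Finite X] (C : Subgroup X)
    (hC : Cfsg.IsFrobeniusComplement C) :
    ∃ (L : Type) (_ : Group L) (_ : Finite L) (H : Subgroup L),
      Cfsg.IsFrobeniusComplement H ∧ Nonempty (C ≃* H) := by
  classical
  let e : X ≃ {i : ℕ // i < Nat.card X} := (Finite.equivFin X).trans Fin.equivSubtype
  let _ : Group {i : ℕ // i < Nat.card X} := e.symm.group
  have : Finite {i : ℕ // i < Nat.card X} := Finite.of_equiv X e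
  let ψ : X ≃* {i : ℕ // i < Nat.card X} := (e.symm.mulEquiv).symm
  exact ⟨{i : ℕ // i < Nat.card X}, inferInstance, inferInstance, C.map (ψ : X →* _),
    frobCompl_map ψ C hC, ⟨MulEquiv.subgroupMap ψ C⟩⟩

/-- [SL25]. -/
theorem pkgSL25 : Cfsg.Agent.Lib.Helper50.FOT.PkgSL25.{u} := by
  intro X _ _ C hC hns
  obtain ⟨G₀, hG₀n, hG₀i, S, M, hSM, hdisj, hcomm, ⟨φ⟩, -, hcop⟩ :=
    Cfsg.Agent.S3359.result (G := C) hns (frobCompl_shrink X C hC)
  -- the product map
  have hcm : ∀ (s : S) (x : M), Commute (S.subtype s) (M.subtype x) :=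
    fun s x => hcomm s.1 s.2 x.1 x.2
  obtain ⟨f, hf⟩ : ∃ f : S × M →* C, f = MonoidHom.noncommCoprod S.subtype M.subtype hcm :=
    ⟨_, rfl⟩
  have hfinj : Function.Injective f := by
    rw [hf, MonoidHom.noncommCoprod_injective]
    refine ⟨Subtype.coe_injective, Subtype.coe_injective, ?_⟩
    rw [Subgroup.range_subtype, Subgroup.range_subtype, disjoint_iff]
    exact hdisj
  have hfrange : f.range = G₀ := by
    rw [hf, MonoidHom.noncommCoprod_range, Subgroup.range_subtype, Subgroup.range_subtype]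
    exact hSM
  have hcardS : Nat.card S = 120 := (Nat.card_congr φ.toEquiv).trans sl25_card
  have hcardG₀ : Nat.card G₀ = 120 * Nat.card M := by
    rw [← hfrange, ← hcardS, ← Nat.card_prod]
    exact (Nat.card_congr (Equiv.ofInjective f hfinj)).symm
  have hcardC : Nat.card C = 120 * Nat.card M * G₀.index := by
    rw [← hcardG₀]
    exact (Subgroup.card_mul_index G₀).symm
  have hM5 : (Nat.card M).Coprime 5 := Nat.Coprime.coprime_dvd_right (by norm_num) hcop
  -- elements of order 5 lie in S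
  have hmemS : ∀ y : C, orderOf y = 5 → y ∈ S := by
    intro y hy
    have hy5 : y ^ 5 = 1 := by rw [← hy]; exact pow_orderOf_eq_one y
    have hyG₀ : y ∈ G₀ := by
      have h2 : y ^ 2 ∈ G₀ := by
        rcases hG₀i with h | h
        · rw [Subgroup.index_eq_one] at h
          rw [h]; exact Subgroup.mem_top _
        · have := Subgroup.pow_index_mem G₀ y
          rwa [h] at this
      have h6 : y = (y ^ 2) ^ 3 := by
        rw [← pow_mul]
        calc y = y ^ 5 * y := by rw [hy5, one_mul]
          _ = y ^ (2 * 3) := by rw [← pow_succ]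
      rw [h6]
      exact pow_mem h2 3
    rw [← hfrange] at hyG₀
    obtain ⟨⟨s, x⟩, hsx⟩ := hyG₀
    have hsx' : (s : C) * (x : C) = y := by
      rw [← hsx, hf]; rfl
    have hc : Commute (s : C) (x : C) := hcomm s.1 s.2 x.1 x.2
    have h5 : (s : C) ^ 5 * (x : C) ^ 5 = 1 := by
      rw [← hc.mul_pow, hsx', hy5]
    have hx5mem : (x : C) ^ 5 ∈ S ⊓ M := by
      refine ⟨?_, M.pow_mem x.2 5⟩
      have : (x : C) ^ 5 = ((s : C) ^ 5)⁻¹ := (inv_eq_of_mul_eq_one_right h5).symm
      rw [this]
      exact S.inv_mem (S.pow_mem s.2 5)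
    rw [hdisj, Subgroup.mem_bot] at hx5mem
    have hx5 : x ^ 5 = 1 := Subtype.ext (by simpa using hx5mem)
    have hxo1 : orderOf x ∣ 5 := orderOf_dvd_of_pow_eq_one hx5
    have hxo2 : orderOf x ∣ Nat.card M := orderOf_dvd_natCard x
    have hxo : orderOf x = 1 := Nat.eq_one_of_dvd_coprimes hM5 hxo2 hxo1
    have hx1 : x = 1 := orderOf_eq_one_iff.mp hxo
    rw [← hsx', hx1]
    simpa using s.2
  refine ⟨?_, ?_, ?_⟩
  · rw [← sl25_count]
    refine Nat.card_congr ?_
    refine
      { toFun := fun y => ⟨φ ⟨y.1, hmemS y.1 y.2⟩, ?_⟩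
        invFun := fun A => ⟨(φ.symm A.1 : C), ?_⟩
        left_inv := ?_
        right_inv := ?_ }
    · rw [MulEquiv.orderOf_eq, ← Subgroup.orderOf_coe]
      exact y.2
    · rw [Subgroup.orderOf_coe, MulEquiv.orderOf_eq]
      exact A.2
    · intro y
      apply Subtype.ext
      simp
    · intro A
      apply Subtype.ext
      simp
  · rw [hcardC]
    exact Dvd.dvd.mul_right (Dvd.dvd.mul_right (by norm_num) _) _
  · rw [hcardC]
    intro h25
    have h5M : ¬ 5 ∣ Nat.card M := by
      intro h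
      have := Nat.Coprime.eq_one_of_dvd hM5.symm h
      omega
    have hp : Nat.Prime 5 := by norm_num
    rcases hG₀i with h | h
    · rw [h, mul_one] at h25
      have h1 : (5 * 5) ∣ 5 * (24 * Nat.card M) := by
        have : 120 * Nat.card M = 5 * (24 * Nat.card M) := by ring
        rw [← this]; exact h25
      have h2 : 5 ∣ 24 * Nat.card M := (Nat.mul_dvd_mul_iff_left (by norm_num)).mp h1
      rcases (Nat.Prime.dvd_mul hp).mp h2 with h3 | h3
      · omega
      · exact h5M h3
    · rw [h] at h25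
      have h1 : (5 * 5) ∣ 5 * (48 * Nat.card M) := by
        have : 120 * Nat.card M * 2 = 5 * (48 * Nat.card M) := by ring
        rw [← this]; exact h25
      have h2 : 5 ∣ 48 * Nat.card M := (Nat.mul_dvd_mul_iff_left (by norm_num)).mp h1
      rcases (Nat.Prime.dvd_mul hp).mp h2 with h3 | h3
      · omega
      · exact h5M h3

end Cfsg.Agent.Lib.Helper57.FOT
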